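import Mathlib.RingTheory.Localization.Finiteness
import Mathlib.RingTheory.Flat.Localization
import Mathlib.RingTheory.Flat.EquationalCriterion
import Mathlib.RingTheory.Flat.Stability
import Mathlib.Algebra.Module.FinitePresentation
import Mathlib.Algebra.Module.LocalizedModule.Submodule

/-!
# Finite presentation and finite projectivity are local on a span of the unit ideal
-/

namespace GrothLib.LocalFP

universe u v

variable {R : Type u} [CommRing R] (M : Type v) [AddCommGroup M] [Module R M]
  (s : Set R) (hs : Ideal.span s = ⊤)

include hs in
theorem finitePresentation_of_localizationSpan
    (H : ∀ g : s, Module.FinitePresentation (Localization.Away g.1) (LocalizedModule.Away g.1 M)) :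
    Module.FinitePresentation R M := by
  haveI : Module.Finite R M := Module.Finite.of_localizationSpan s hs fun g =>
    haveI := H g; inferInstance
  obtain ⟨n, π, hπ⟩ := Module.Finite.exists_fin' R M
  refine Module.finitePresentation_of_surjective π hπ ?_
  refine Submodule.of_localizationSpan s hs fun g => ?_
  haveI := H g
  let p := Submonoid.powers g.1
  let f := LocalizedModule.mkLinearMap p (Fin n → R)
  let f' := LocalizedModule.mkLinearMap p M
  let A := Localization.Away g.1
  haveI : Module.Finite A (LocalizedModule p (Fin n → R)) := Module.Finite.of_isLocalizedModule p f
  change ((LinearMap.ker π).localized' A p f).FG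
  rw [LinearMap.localized'_ker_eq_ker_localizedMap A p f f']
  apply Module.FinitePresentation.fg_ker
  change Function.Surjective (IsLocalizedModule.map p f f' π)
  exact IsLocalizedModule.map_surjective p f f' π hπ

include hs in
theorem finite_projective_of_localizationSpan_free
    (H : ∀ g : s, Module.Finite (Localization.Away g.1) (LocalizedModule.Away g.1 M) ∧
      Module.Free (Localization.Away g.1) (LocalizedModule.Away g.1 M)) :
    Module.Finite R M ∧ Module.Projective R M := by
  haveI : Module.FinitePresentation R M := finitePresentation_of_localizationSpan M s hs fun g => by
    haveI := (H g).1; haveI := (H g).2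
    exact Module.finitePresentation_of_projective _ _
  haveI : Module.Flat R M := Module.flat_of_localized_span (S := R) M s hs fun g => by
    haveI := (H g).2
    haveI : Module.Flat R (Localization.Away g.1) := IsLocalization.flat _ (Submonoid.powers g.1)
    exact Module.Flat.trans R (Localization.Away g.1) (LocalizedModule.Away g.1 M)
  exact ⟨inferInstance, Module.Flat.projective_of_finitePresentation⟩

end GrothLib.LocalFP
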